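import Mathlib
import Groth.Prelude.Def_PP16
import Groth.Agent.Lib.Helper5.SymPow.D
import Groth.Agent.Lib.Helper5.GrSym.C

set_option autoImplicit false

namespace Groth.Agent.H5.QR

open TensorProduct MvPolynomial

universe u

section L1

variable {R : Type u} [CommRing R] (J : Ideal R) (t : R) {r : ℕ} (f : Fin r → J)
  (b' : Module.Basis (Fin r) (Localization.Away (Ideal.Quotient.mk J t))
    (LocalizedModule (Submonoid.powers (Ideal.Quotient.mk J t)) J.Cotangent))
  (hb' : ∀ i, b' i = LocalizedModule.mkLinearMap (Submonoid.powers (Ideal.Quotient.mk J t))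
    J.Cotangent (J.toCotangent (f i)))

include hb' in
/-- Every element of the cotangent space is, up to a power of `t`, a combination of the `f i`. -/
theorem exists_pow_smul_mem_span (m : J.Cotangent) :
    ∃ N : ℕ, (Ideal.Quotient.mk J t) ^ N • m ∈
      Submodule.span (R ⧸ J) (Set.range fun i => J.toCotangent (f i)) := by
  obtain ⟨s, hs⟩ := IsLocalization.exist_integer_multiples_of_finite
    (Submonoid.powers (Ideal.Quotient.mk J t))
    (fun i : Fin r => b'.repr (LocalizedModule.mkLinearMap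
      (Submonoid.powers (Ideal.Quotient.mk J t)) J.Cotangent m) i)
  obtain ⟨N, hN⟩ := s.2
  choose c' hc' using hs
  have h1 : LocalizedModule.mkLinearMap (Submonoid.powers (Ideal.Quotient.mk J t)) J.Cotangent
      ((Ideal.Quotient.mk J t) ^ N • m - ∑ i, c' i • J.toCotangent (f i)) = 0 := by
    rw [map_sub, map_smul, map_sum, sub_eq_zero]
    conv_lhs => rw [← b'.sum_repr (LocalizedModule.mkLinearMap
      (Submonoid.powers (Ideal.Quotient.mk J t)) J.Cotangent m), Finset.smul_sum]
    refine Finset.sum_congr rfl fun i _ => ?_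
    rw [map_smul, ← hb' i, ← algebraMap_smul (Localization.Away (Ideal.Quotient.mk J t)) (c' i)
      (b' i), hc' i, ← hN]
    exact (smul_assoc ((Ideal.Quotient.mk J t) ^ N) _ (b' i)).symm
  obtain ⟨s', hs'⟩ := (IsLocalizedModule.eq_zero_iff (Submonoid.powers (Ideal.Quotient.mk J t))
    (LocalizedModule.mkLinearMap (Submonoid.powers (Ideal.Quotient.mk J t)) J.Cotangent)).mp h1
  obtain ⟨k, hk⟩ := s'.2
  refine ⟨k + N, ?_⟩
  rw [Submonoid.smul_def, ← hk, smul_sub, sub_eq_zero] at hs'
  rw [pow_add, mul_smul, hs', Finset.smul_sum]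
  refine Submodule.sum_mem _ fun i _ => ?_
  rw [smul_smul]
  exact Submodule.smul_mem _ _ (Submodule.subset_span ⟨i, rfl⟩)

include hb' in
/-- Ring-level form: every element of `J` is, up to a power of `t` and modulo `J²`, in `(f)`. -/
theorem exists_pow_mul_mem (x : R) (hx : x ∈ J) :
    ∃ N : ℕ, t ^ N * x ∈ Ideal.span (Set.range fun i => (f i : R)) ⊔ J ^ 2 := by
  obtain ⟨N, hN⟩ := exists_pow_smul_mem_span J t f b' hb' (J.toCotangent ⟨x, hx⟩)
  refine ⟨N, ?_⟩
  have hN' : (Ideal.Quotient.mk J) t ^ N • J.toCotangent ⟨x, hx⟩ ∈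
      Submodule.span R (Set.range fun i => J.toCotangent (f i)) := by
    rw [← Submodule.restrictScalars_span R (R ⧸ J) Ideal.Quotient.mk_surjective]
    exact hN
  obtain ⟨c, hc⟩ := (Submodule.mem_span_range_iff_exists_fun R).mp hN' 
  have h1 : J.toCotangent (⟨t ^ N * x, J.mul_mem_left _ hx⟩ : J) =
      J.toCotangent (∑ i, c i • f i) := by
    rw [map_sum]
    simp only [map_smul]
    rw [hc, ← map_pow]
    have : (⟨t ^ N * x, J.mul_mem_left _ hx⟩ : J) = (t ^ N) • (⟨x, hx⟩ : J) := rfl
    rw [this, map_smul]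
    rfl
  rw [Ideal.toCotangent_eq] at h1
  have h2 : t ^ N * x = (∑ i, c i * (f i : R)) + (t ^ N * x - ∑ i, c i * (f i : R)) := by ring
  rw [h2]
  refine Ideal.add_mem _ (Ideal.mem_sup_left ?_) (Ideal.mem_sup_right ?_)
  · exact Ideal.sum_mem _ fun i _ => Ideal.mul_mem_left _ _ (Ideal.subset_span ⟨i, rfl⟩)
  · simpa using h1

end L1

end Groth.Agent.H5.QR
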