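import Mathlib
import Groth.Prelude.Def_PP16
import Groth.Agent.Lib.Helper5.SymPow.E
import Groth.Agent.Lib.Helper5.GrSym.A3
import Groth.Agent.Lib.Helper5.GrSym.C
import Groth.Agent.Lib.Helper5.QR.B

set_option autoImplicit false

namespace Groth.Agent.H5.QR

open TensorProduct MvPolynomial

universe u

section clsSum

variable {B₀ S : Type u} [CommRing B₀] [CommRing S] [Algebra B₀ S] (𝔍 : Ideal S) {n : ℕ}
  (N N' : Submodule B₀ S) (hN : ∀ x, x ∈ N ↔ x ∈ 𝔍 ^ n)

lemma cls_sum {α : Type*} (s : Finset α) (c : α → B₀) (y : α → S) (hy : ∀ a, y a ∈ 𝔍 ^ n) :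
    ∑ a ∈ s, c a • GrSym.cls 𝔍 N N' hN (y a) (hy a) =
      GrSym.cls 𝔍 N N' hN (∑ a ∈ s, c a • y a)
        (Ideal.sum_mem _ fun a _ => by
          rw [Algebra.smul_def]; exact Ideal.mul_mem_left _ _ (hy a)) := by
  classical
  induction s using Finset.induction_on with
  | empty => simp only [Finset.sum_empty]; rfl
  | insert a s ha ih =>
    simp only [Finset.sum_insert ha]
    rw [ih]
    rfl

end clsSum

section L2

variable {R : Type u} [CommRing R] (J : Ideal R) (t : R) {r : ℕ} (f : Fin r → J)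
  (b' : Module.Basis (Fin r) (Localization.Away (Ideal.Quotient.mk J t))
    (LocalizedModule (Submonoid.powers (Ideal.Quotient.mk J t)) J.Cotangent))
  (hb' : ∀ i, b' i = LocalizedModule.mkLinearMap (Submonoid.powers (Ideal.Quotient.mk J t))
    J.Cotangent (J.toCotangent (f i)))

/-- The coordinate linear form `J/J² → C_t[X]`. -/
noncomputable def gCoord :
    J.Cotangent →ₗ[R] MvPolynomial (Fin r) (Localization.Away (Ideal.Quotient.mk J t)) :=
  (GrSym.ell.restrictScalars R) ∘ₗ (b'.repr.toLinearMap.restrictScalars R) ∘ₗ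
    ((LocalizedModule.mkLinearMap (Submonoid.powers (Ideal.Quotient.mk J t))
      J.Cotangent).restrictScalars R)

include hb' in
lemma gCoord_apply (i : Fin r) : gCoord J t b' (J.toCotangent (f i)) = X i := by
  simp only [gCoord, LinearMap.comp_apply, LinearMap.restrictScalars_apply, LinearEquiv.coe_coe]
  rw [← hb' i, Module.Basis.repr_self]
  have : (Finsupp.single i (1 : Localization.Away (Ideal.Quotient.mk J t))) =
      Finsupp.basisSingleOne (R := Localization.Away (Ideal.Quotient.mk J t)) i := by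
    simp
  rw [this]
  exact SymPow.linForm_basis _ i

variable {ι : Type u} [Fintype ι]

include hb' in
lemma prodMap_repFam (d : Fin r →₀ ℕ) (hd : d.degree = Fintype.card ι) :
    SymPow.prodMap (ι := ι) (gCoord J t b')
      (SymPow.repFam (R := R) (ι := ι) (fun i => J.toCotangent (f i)) d) = monomial d 1 := by
  obtain ⟨a, ha, hrep⟩ := SymPow.repFam_of_degree (R := R) (ι := ι)
    (fun i => J.toCotangent (f i)) d hd
  rw [hrep, SymPow.prodMap_tprod]
  simp only [gCoord_apply J t f b' hb']
  rw [SymPow.prod_X_eq_monomial, ha]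


lemma prod_pow_mem (d : Fin r →₀ ℕ) (hd : d.degree = Fintype.card ι) :
    ∏ i, ((f i : R)) ^ d i ∈ J ^ Fintype.card ι := by
  obtain ⟨a, ha⟩ := SymPow.exists_count_eq (ι := ι) d hd
  have := GrSym.prod_mem J (fun l => f (a l))
  rw [SymPow.prod_comp_eq_prod_pow a (fun k => (f k : R)), ha,
    Finsupp.prod_fintype _ _ (fun i => pow_zero _)] at this
  exact this

include hb' in
theorem exists_pow_mul_coeff_mem [Nonempty ι]
    (φ : Sym[R] ι J.Cotangent →ₗ[R] PP16.grJ R J (Fintype.card ι))
    (hφ : ∀ x : ι → J, φ (SymmetricPower.tprod R (fun i => J.toCotangent (x i))) =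
      PP16.zetaJ R J x)
    (hinj : Function.Injective φ)
    (F : MvPolynomial (Fin r) R) (hF : F.IsHomogeneous (Fintype.card ι))
    (hev : MvPolynomial.eval (fun i => (f i : R)) F ∈ J ^ (Fintype.card ι + 1))
    (d₀ : Fin r →₀ ℕ) :
    ∃ k : ℕ, t ^ k * F.coeff d₀ ∈ J := by
  classical
  have hdeg : ∀ d ∈ F.support, d.degree = Fintype.card ι := by
    intro d hd
    by_contra hne
    exact (MvPolynomial.mem_support_iff.mp hd) (hF.coeff_eq_zero hne)
  let v : Fin r → J.Cotangent := fun i => J.toCotangent (f i)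
  let y : (Fin r →₀ ℕ) → R := fun d =>
    if d.degree = Fintype.card ι then ∏ i, ((f i : R)) ^ d i else 0
  have hy : ∀ d, y d ∈ J ^ Fintype.card ι := by
    intro d
    by_cases h : d.degree = Fintype.card ι
    · simp only [y, if_pos h]
      exact prod_pow_mem (ι := ι) J f d h
    · simp only [y, if_neg h]
      exact Ideal.zero_mem _
  have hφrep : ∀ d, d.degree = Fintype.card ι →
      φ (SymPow.repFam (R := R) (ι := ι) v d) =
        GrSym.cls J (J ^ Fintype.card ι) (J ^ (Fintype.card ι + 1)) (fun _ => Iff.rfl)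
          (y d) (hy d) := by
    intro d hd
    obtain ⟨a, ha, hrep⟩ := SymPow.repFam_of_degree (R := R) (ι := ι) v d hd
    rw [hrep, hφ (fun l => f (a l))]
    change Submodule.Quotient.mk _ = Submodule.Quotient.mk _
    congr 1
    apply Subtype.ext
    change ∏ l, ((f (a l) : J) : R) = y d
    simp only [y, if_pos hd]
    rw [SymPow.prod_comp_eq_prod_pow a (fun k => (f k : R)), ha,
      Finsupp.prod_fintype _ _ (fun i => pow_zero _)]
  set z : Sym[R] ι J.Cotangent := ∑ d ∈ F.support, F.coeff d • SymPow.repFam (R := R) (ι := ι) v d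
    with hz
  have hsum : ∑ d ∈ F.support, F.coeff d • y d = MvPolynomial.eval (fun i => (f i : R)) F := by
    rw [MvPolynomial.eval_eq']
    refine Finset.sum_congr rfl fun d hd => ?_
    simp only [y, if_pos (hdeg d hd), smul_eq_mul]
  -- φ z = 0
  have hφz : φ z = 0 := by
    rw [hz, map_sum]
    have h1 : ∀ d ∈ F.support, φ (F.coeff d • SymPow.repFam (R := R) (ι := ι) v d) =
        F.coeff d • GrSym.cls J (J ^ Fintype.card ι) (J ^ (Fintype.card ι + 1))
          (fun _ => Iff.rfl) (y d) (hy d) := by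
      intro d hd
      rw [map_smul, hφrep d (hdeg d hd)]
    rw [Finset.sum_congr rfl h1, cls_sum J (J ^ Fintype.card ι) (J ^ (Fintype.card ι + 1))
      (fun _ => Iff.rfl) F.support (fun d => F.coeff d) y hy]
    apply GrSym.cls_eq_zero J _ _ (fun _ => Iff.rfl) (fun _ => Iff.rfl)
    rw [hsum]
    exact hev
  have hz0 : z = 0 := hinj (by rw [hφz, map_zero])
  have hP := congrArg (SymPow.prodMap (ι := ι) (gCoord J t b')) hz0
  rw [hz, map_sum, map_zero] at hP
  have hP2 : ∑ d ∈ F.support, F.coeff d •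
      (monomial d (1 : Localization.Away (Ideal.Quotient.mk J t))) = 0 := by
    rw [← hP]
    refine Finset.sum_congr rfl fun d hd => ?_
    rw [map_smul, prodMap_repFam J t f b' hb' d (hdeg d hd)]
  have hc := congrArg (MvPolynomial.coeff d₀) hP2
  rw [MvPolynomial.coeff_sum, MvPolynomial.coeff_zero] at hc
  have hc2 : algebraMap R (Localization.Away (Ideal.Quotient.mk J t)) (F.coeff d₀) = 0 := by
    rw [← hc]
    rw [Finset.sum_eq_single d₀]
    · rw [MvPolynomial.coeff_smul, MvPolynomial.coeff_monomial, if_pos rfl, Algebra.smul_def,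
        mul_one]
    · intro d _ hne
      rw [MvPolynomial.coeff_smul, MvPolynomial.coeff_monomial, if_neg hne, smul_zero]
    · intro hd₀
      rw [MvPolynomial.notMem_support_iff.mp hd₀, zero_smul, MvPolynomial.coeff_zero]
  rw [IsScalarTower.algebraMap_apply R (R ⧸ J) (Localization.Away (Ideal.Quotient.mk J t)),
    IsLocalization.map_eq_zero_iff (Submonoid.powers (Ideal.Quotient.mk J t))] at hc2
  obtain ⟨⟨m, k, rfl⟩, hm⟩ := hc2
  refine ⟨k, ?_⟩
  rw [← Ideal.Quotient.eq_zero_iff_mem, map_mul, map_pow]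
  exact hm

end L2

end Groth.Agent.H5.QR
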