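import Mathlib

set_option autoImplicit false

namespace Groth.Agent.H5.QR

section spread

variable {C : Type*} [CommRing C] {M : Type*} [AddCommGroup M] [Module C M]
  [Module.FinitePresentation C M] (p : Ideal C) [p.IsPrime]

set_option backward.isDefEq.respectTransparency.types false in
/-- A family of elements of a finitely presented module which becomes a basis at a prime is a
basis on a basic open neighbourhood (and on every smaller basic open). -/
theorem exists_spread_module {κ : Type*} [Finite κ] (a : κ → M)
    (b : Module.Basis κ (Localization.AtPrime p) (LocalizedModule p.primeCompl M))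
    (hb : ∀ i, b i = LocalizedModule.mkLinearMap p.primeCompl M (a i)) :
    ∃ g0 ∉ p, ∀ t, g0 ∣ t →
      ∃ b' : Module.Basis κ (Localization.Away t) (LocalizedModule (Submonoid.powers t) M),
        ∀ i, b' i = LocalizedModule.mkLinearMap (Submonoid.powers t) M (a i) := by
  let e : (κ →₀ C) →ₗ[C] M := Finsupp.linearCombination C a
  let l₁ : (κ →₀ C) →ₗ[C] (κ →₀ Localization.AtPrime p) :=
    Finsupp.mapRange.linearMap (Algebra.linearMap C (Localization.AtPrime p))
  let l₂ : M →ₗ[C] LocalizedModule p.primeCompl M := LocalizedModule.mkLinearMap p.primeCompl M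
  let eₚ : (κ →₀ Localization.AtPrime p) →ₗ[Localization.AtPrime p]
      LocalizedModule p.primeCompl M :=
    IsLocalizedModule.mapExtendScalars p.primeCompl l₁ l₂ (Localization.AtPrime p) e
  have : eₚ = b.repr.symm := by
    ext i
    trans IsLocalizedModule.map p.primeCompl l₁ l₂ e <| l₁ <| Finsupp.single i 1
    · simp [eₚ, -IsLocalizedModule.map_apply, l₁]
    · simp [l₂, e, hb]
  have heₚ : Function.Bijective eₚ := this ▸ b.repr.symm.bijective
  obtain ⟨g0, hg0, h⟩ := exists_bijective_map_powers p.primeCompl l₁ l₂ e heₚ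
  refine ⟨g0, hg0, fun t ht => ?_⟩
  have h := h t ht
  let l₁ₜ : (κ →₀ C) →ₗ[C] (κ →₀ Localization.Away t) :=
    Finsupp.mapRange.linearMap (Algebra.linearMap C _)
  let l₂ₜ : M →ₗ[C] LocalizedModule (Submonoid.powers t) M :=
    LocalizedModule.mkLinearMap (Submonoid.powers t) M
  rw [← IsLocalizedModule.map_bijective_iff_localizedModuleMap_bijective l₁ₜ l₂ₜ] at h
  let eₜ' : (κ →₀ Localization.Away t) →ₗ[Localization.Away t]
      LocalizedModule (Submonoid.powers t) M :=
    IsLocalizedModule.mapExtendScalars (Submonoid.powers t) l₁ₜ l₂ₜ (Localization.Away t) e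
  refine ⟨.ofRepr (LinearEquiv.ofBijective eₜ' h).symm, fun i => ?_⟩
  simp +zetaDelta [IsLocalizedModule.map_linearCombination]

end spread

end Groth.Agent.H5.QR
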