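import Mathlib
import Groth.Prelude.Def_PP16

set_option autoImplicit false

namespace Groth.Agent.H5.QR

open MvPolynomial

universe u

section L3

variable {R : Type u} [CommRing R] (J : Ideal R) (g : R) {r : ℕ} (f : Fin r → R)
  (S : Type u) [CommRing S] [Algebra R S] [IsLocalization.Away g S]

lemma isUnit_alg_pow (k : ℕ) : IsUnit (algebraMap R S (g ^ k)) := by
  rw [map_pow]
  exact (IsLocalization.Away.algebraMap_isUnit g).pow k

include g in
lemma mem_map_of_pow_mul_mem (x : S) (c : R) (N : ℕ) (hc : algebraMap R S c = algebraMap R S (g ^ N) * x)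
    (k : ℕ) (h : g ^ k * c ∈ J) : x ∈ J.map (algebraMap R S) := by
  have h1 := Ideal.mem_map_of_mem (algebraMap R S) h
  rw [map_mul, hc, ← mul_assoc, ← map_mul] at h1
  exact (Ideal.unit_mul_mem_iff_mem _ (by rw [← pow_add]; exact isUnit_alg_pow g S _)).mp h1

include g in
/-- Membership in `(J^m)S` descends up to a power of `g`. -/
lemma exists_pow_mul_mem_of_map_mem (m : ℕ) (x : R)
    (hx : algebraMap R S x ∈ (J ^ m).map (algebraMap R S)) : ∃ K, g ^ K * x ∈ J ^ m := by
  rw [IsLocalization.mem_map_algebraMap_iff (Submonoid.powers g)] at hx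
  obtain ⟨⟨a, ⟨_, k, rfl⟩⟩, ha⟩ := hx
  have h2 : algebraMap R S (x * g ^ k - a.1) = 0 := by
    rw [map_sub, map_mul, ha, sub_self]
  obtain ⟨⟨_, k', rfl⟩, hc⟩ := (IsLocalization.map_eq_zero_iff (Submonoid.powers g) _ _).mp h2
  refine ⟨k' + k, ?_⟩
  have h3 : g ^ (k' + k) * x = g ^ k' * a.1 := by
    have : g ^ k' * (x * g ^ k - a.1) = 0 := hc
    rw [mul_sub, sub_eq_zero] at this
    rw [← this]
    ring
  rw [h3]
  exact Ideal.mul_mem_left _ _ a.2

include g in
theorem isQuasiRegular_of_descent
    (hgen : Ideal.span (Set.range fun i => algebraMap R S (f i)) = J.map (algebraMap R S))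
    (H : ∀ n : ℕ, 1 ≤ n → ∀ F : MvPolynomial (Fin r) R, F.IsHomogeneous n →
      MvPolynomial.eval f F ∈ J ^ (n + 1) → ∀ d₀, ∃ k : ℕ, g ^ k * F.coeff d₀ ∈ J) :
    CAlgX.IsQuasiRegular (fun i => algebraMap R S (f i)) := by
  classical
  intro n Pol hPol hev d₀
  rw [hgen] at hev ⊢
  rcases Nat.eq_zero_or_pos n with rfl | hn
  · -- degree 0
    have hP : Pol = C (Pol.coeff 0) := by
      ext d
      rw [coeff_C]
      split_ifs with h
      · rw [h]
      · apply hPol.coeff_eq_zero
        intro h0
        apply h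
        have : d.degree = 0 := h0
        rw [Finsupp.degree_eq_zero_iff] at this
        exact this.symm
    rw [hP, eval_C, zero_add, pow_one] at hev
    rw [hP, coeff_C]
    split_ifs
    · exact hev
    · exact Ideal.zero_mem _
  · -- degree ≥ 1
    by_cases hd₀ : d₀ ∈ Pol.support
    swap
    · rw [notMem_support_iff.mp hd₀]; exact Ideal.zero_mem _
    obtain ⟨⟨_, N₀, rfl⟩, hb⟩ := IsLocalization.exist_integer_multiples_of_finset
      (Submonoid.powers g) (Pol.support.image fun d => Pol.coeff d)
    have hb' : ∀ d ∈ Pol.support, ∃ c : R, algebraMap R S c = algebraMap R S (g ^ N₀) * Pol.coeff d := by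
      intro d hd
      obtain ⟨c, hc⟩ := hb (Pol.coeff d) (Finset.mem_image_of_mem _ hd)
      refine ⟨c, ?_⟩
      rw [hc, Algebra.smul_def]
    choose! c hc using hb'
    let F' : MvPolynomial (Fin r) R := ∑ d ∈ Pol.support, monomial d (c d)
    have hdeg : ∀ d ∈ Pol.support, d.degree = n := by
      intro d hd
      by_contra hne
      exact (mem_support_iff.mp hd) (hPol.coeff_eq_zero hne)
    have hF' : F'.IsHomogeneous n := by
      apply IsHomogeneous.sum
      intro d hd
      exact isHomogeneous_monomial _ (hdeg d hd)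
    have hmapF' : MvPolynomial.map (algebraMap R S) F' = C (algebraMap R S (g ^ N₀)) * Pol := by
      simp only [F', map_sum, map_monomial]
      conv_rhs => rw [Pol.as_sum, Finset.mul_sum]
      refine Finset.sum_congr rfl fun d hd => ?_
      rw [hc d hd, C_mul_monomial]
    have hev' : algebraMap R S (MvPolynomial.eval f F') ∈ (J ^ (n + 1)).map (algebraMap R S) := by
      have h1 : algebraMap R S (MvPolynomial.eval f F') =
          MvPolynomial.eval (fun i => algebraMap R S (f i)) (MvPolynomial.map (algebraMap R S) F') := by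
        rw [MvPolynomial.eval_map]
        exact MvPolynomial.eval₂_comp (algebraMap R S) f F'
      rw [h1, hmapF', map_mul, eval_C, Ideal.map_pow]
      exact Ideal.mul_mem_left _ _ hev
    obtain ⟨K, hK⟩ := exists_pow_mul_mem_of_map_mem J g S (n + 1) _ hev'
    let F'' : MvPolynomial (Fin r) R := C (g ^ K) * F'
    have hF'' : F''.IsHomogeneous n := by
      have := (isHomogeneous_C (Fin r) (g ^ K)).mul hF'
      rwa [zero_add] at this
    have hev'' : MvPolynomial.eval f F'' ∈ J ^ (n + 1) := by
      simp only [F'', map_mul, eval_C]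
      exact hK
    obtain ⟨k, hk⟩ := H n hn F'' hF'' hev'' d₀
    have hcoeff : F''.coeff d₀ = g ^ K * c d₀ := by
      simp only [F'', coeff_C_mul, F', coeff_sum, coeff_monomial]
      rw [Finset.sum_eq_single d₀]
      · rw [if_pos rfl]
      · intro d _ hne; rw [if_neg hne]
      · intro h; exact absurd hd₀ h
    rw [hcoeff, ← mul_assoc, ← pow_add] at hk
    exact mem_map_of_pow_mul_mem J g S (Pol.coeff d₀) (c d₀) N₀ (hc d₀ hd₀) _ hk

end L3

end Groth.Agent.H5.QR
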