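import Mathlib
import Groth.Prelude.Def_PP16
import Groth.Agent.Lib.Helper5.EtCoord.F
import Groth.Agent.Lib.Helper5.QR.A
import Groth.Agent.Lib.Helper5.QR.C
import Groth.Agent.Lib.Helper5.QR.D

set_option autoImplicit false

namespace Groth.Agent.H5.QR

open MvPolynomial

universe u

section Nak

variable {R : Type u} [CommRing R] (J : Ideal R) (P : Ideal R) [P.IsPrime] {r : ℕ} (f : Fin r → J)

theorem map_atPrime_eq_span (hJP : J ≤ P) (hJ : J.FG) (t : R) (ht : t ∉ P)
    (hL1 : ∀ x ∈ J, ∃ N : ℕ, t ^ N * x ∈ Ideal.span (Set.range fun i => (f i : R)) ⊔ J ^ 2) :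
    J.map (algebraMap R (Localization.AtPrime P)) =
      Ideal.span (Set.range fun i => algebraMap R (Localization.AtPrime P) (f i)) := by
  apply le_antisymm
  · apply Submodule.le_of_le_smul_of_le_jacobson_bot (I := J.map (algebraMap R (Localization.AtPrime P)))
    · exact hJ.map _
    · rw [IsLocalRing.jacobson_eq_maximalIdeal ⊥ bot_ne_top,
        ← Localization.AtPrime.map_eq_maximalIdeal]
      exact Ideal.map_mono hJP
    · rw [Ideal.map_le_iff_le_comap]
      intro x hx
      rw [Ideal.mem_comap]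
      obtain ⟨N, hN⟩ := hL1 x hx
      have h1 := Ideal.mem_map_of_mem (algebraMap R (Localization.AtPrime P)) hN
      rw [Ideal.map_sup, Ideal.map_span, ← Set.range_comp, Ideal.map_pow, pow_two, map_mul] at h1
      have hu : IsUnit (algebraMap R (Localization.AtPrime P) (t ^ N)) := by
        rw [map_pow]
        exact (IsLocalization.map_units (Localization.AtPrime P) (⟨t, ht⟩ : P.primeCompl)).pow N
      exact (Ideal.unit_mul_mem_iff_mem _ hu).mp h1
  · rw [Ideal.span_le]
    rintro _ ⟨i, rfl⟩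
    exact Ideal.mem_map_of_mem _ (f i).2

end Nak

section Main

variable {R : Type u} [CommRing R] (J : Ideal R)

theorem isLocallyQuasiRegular_of (hfg : J.FG) (hproj : Module.Projective (R ⧸ J) J.Cotangent)
    (hsym : PP16.SymGrBijective R J) : PP16.IsLocallyQuasiRegular R J := by
  intro P _ hJP
  haveI : Module.Finite R J := Module.Finite.iff_fg.mpr hfg
  haveI : Module.Finite R J.Cotangent :=
    Module.Finite.of_surjective J.toCotangent J.toCotangent_surjective
  haveI : Module.Finite (R ⧸ J) J.Cotangent := Module.Finite.of_restrictScalars_finite R _ _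
  haveI : Module.FinitePresentation (R ⧸ J) J.Cotangent :=
    Module.finitePresentation_of_projective _ _
  set Pb : Ideal (R ⧸ J) := P.map (Ideal.Quotient.mk J) with hPb
  haveI : Pb.IsPrime :=
    Ideal.map_isPrime_of_surjective Ideal.Quotient.mk_surjective (by rwa [Ideal.mk_ker])
  have hcomap : ∀ x : R, Ideal.Quotient.mk J x ∈ Pb → x ∈ P := by
    intro x hx
    have : x ∈ Pb.comap (Ideal.Quotient.mk J) := hx
    rw [hPb, Ideal.comap_map_of_surjective _ Ideal.Quotient.mk_surjective, ← RingHom.ker_eq_comap_bot,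
      Ideal.mk_ker, sup_eq_left.mpr hJP] at this
    exact this
  -- local basis
  let v : J → LocalizedModule Pb.primeCompl J.Cotangent := fun x =>
    LocalizedModule.mkLinearMap Pb.primeCompl J.Cotangent (J.toCotangent x)
  have hv : Submodule.span (Localization.AtPrime Pb) (Set.range v) = ⊤ := by
    have h0 : Submodule.span (R ⧸ J) (Set.range J.toCotangent) = ⊤ := by
      rw [Set.range_eq_univ.mpr J.toCotangent_surjective, Submodule.span_univ]
    have := span_eq_top_of_isLocalizedModule (Localization.AtPrime Pb) Pb.primeCompl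
      (LocalizedModule.mkLinearMap Pb.primeCompl J.Cotangent) h0
    rw [← Set.range_comp] at this
    exact this
  obtain ⟨κ, a, b, hb⟩ := Module.exists_basis_of_span_of_flat v hv
  haveI : Finite κ := Module.Finite.finite_basis b
  let e : κ ≃ Fin (Nat.card κ) := Finite.equivFin κ
  let f : Fin (Nat.card κ) → J := fun i => a (e.symm i)
  let b₁ := b.reindex e
  have hb₁ : ∀ i, b₁ i = LocalizedModule.mkLinearMap Pb.primeCompl J.Cotangent
      (J.toCotangent (f i)) := by
    intro i
    rw [Module.Basis.reindex_apply, hb]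
  obtain ⟨g0, hg0, hspread⟩ := exists_spread_module Pb (fun i => J.toCotangent (f i)) b₁ hb₁
  obtain ⟨g₁, rfl⟩ := Ideal.Quotient.mk_surjective g0
  have hg₁ : g₁ ∉ P := fun h => hg0 (Ideal.mem_map_of_mem _ h)
  obtain ⟨b', hb'⟩ := hspread (Ideal.Quotient.mk J g₁) dvd_rfl
  have hL1 := exists_pow_mul_mem J g₁ f b' hb'
  have hgen := map_atPrime_eq_span J P f hJP hfg g₁ hg₁ hL1
  obtain ⟨s, hs, hsgen⟩ := EtCoord.exists_gen J P (fun i => (f i : R)) (fun i => (f i).2) hgen hfg
  have hgen' := hsgen (g₁ * s) (dvd_mul_left _ _)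
  refine ⟨g₁ * s, ‹P.IsPrime›.mul_notMem hg₁ hs, Nat.card κ,
    fun i => algebraMap R (Localization.Away (g₁ * s)) (f i), ?_, hgen'.symm⟩
  obtain ⟨b'', hb''⟩ := hspread (Ideal.Quotient.mk J (g₁ * s))
    (by rw [map_mul]; exact dvd_mul_right _ _)
  apply isQuasiRegular_of_descent J (g₁ * s) (fun i => (f i : R)) (Localization.Away (g₁ * s))
    hgen'.symm
  intro n hn F hF hev d₀
  haveI : Nonempty (ULift.{u} (Fin n)) := ⟨⟨⟨0, hn⟩⟩⟩
  obtain ⟨φ, hφ, hbij⟩ := hsym (ULift.{u} (Fin n))
  have hcard : Fintype.card (ULift.{u} (Fin n)) = n := by simp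
  exact exists_pow_mul_coeff_mem (ι := ULift.{u} (Fin n)) J (g₁ * s) f b'' hb'' φ hφ hbij.1 F
    (by rw [hcard]; exact hF) (by rw [hcard]; exact hev) d₀

end Main

end Groth.Agent.H5.QR
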