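import Mathlib
import Groth.Prelude.Def_PP16
import Groth.Agent.Lib.Helper5.QR.D

set_option autoImplicit false

namespace Groth.Agent.H5.QR

open MvPolynomial

universe u

/-- If every prime misses some element of `t`, then `t` generates the unit ideal. -/
lemma span_eq_top_of_forall_prime {R : Type*} [CommRing R] (t : Set R)
    (h : ∀ (P : Ideal R) [P.IsPrime], ∃ g ∈ t, g ∉ P) : Ideal.span t = ⊤ := by
  by_contra hne
  obtain ⟨M, hM, hle⟩ := Ideal.exists_le_maximal _ hne
  obtain ⟨g, hgt, hgM⟩ := h M
  exact hgM (hle (Ideal.subset_span hgt))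

/-- Evaluating a homogeneous polynomial at a rescaled point. -/
lemma eval_smul_of_isHomogeneous {S : Type*} [CommRing S] {r : ℕ} (u : S) (f : Fin r → S)
    {n : ℕ} (G : MvPolynomial (Fin r) S) (hG : G.IsHomogeneous n) :
    MvPolynomial.eval (fun i => u * f i) G = u ^ n * MvPolynomial.eval f G := by
  rw [MvPolynomial.eval_eq', MvPolynomial.eval_eq', Finset.mul_sum]
  refine Finset.sum_congr rfl fun d hd => ?_
  have hdeg : d.degree = n := by
    by_contra hne
    exact (mem_support_iff.mp hd) (hG.coeff_eq_zero hne)
  simp only [mul_pow, Finset.prod_mul_distrib, Finset.prod_pow_eq_pow_sum]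
  rw [← Finsupp.degree_eq_sum, hdeg]
  ring

/-- The `R`-level form of "quasi-regular after inverting `g`". -/
def QRg {R : Type u} [CommRing R] (J : Ideal R) (g : R) {r : ℕ} (f' : Fin r → J) : Prop :=
  (∀ x ∈ J, ∃ N : ℕ, g ^ N * x ∈ Ideal.span (Set.range fun i => (f' i : R))) ∧
    ∀ (n : ℕ) (F : MvPolynomial (Fin r) R), F.IsHomogeneous n →
      MvPolynomial.eval (fun i => (f' i : R)) F ∈ J ^ (n + 1) →
        ∀ d, ∃ k : ℕ, g ^ k * F.coeff d ∈ J

section K

variable {R : Type u} [CommRing R] (J : Ideal R) (g : R) {r : ℕ}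

theorem exists_QRg (f : Fin r → Localization.Away g) (hqr : CAlgX.IsQuasiRegular f)
    (hspan : Ideal.span (Set.range f) = J.map (algebraMap R (Localization.Away g))) :
    ∃ f' : Fin r → J, QRg J g f' := by
  classical
  -- choose numerators
  have h1 : ∀ i, ∃ (a : J) (e : ℕ), f i * algebraMap R (Localization.Away g) (g ^ e) = algebraMap R (Localization.Away g) a := by
    intro i
    have hi : f i ∈ J.map (algebraMap R (Localization.Away g)) := hspan ▸ Ideal.subset_span ⟨i, rfl⟩
    rw [IsLocalization.mem_map_algebraMap_iff (Submonoid.powers g)] at hi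
    obtain ⟨⟨a, ⟨_, e, rfl⟩⟩, ha⟩ := hi
    exact ⟨a, e, ha⟩
  choose a e ha using h1
  set E := ∑ j, e j with hE
  have hle : ∀ i, e i ≤ E := fun i => Finset.single_le_sum (fun _ _ => Nat.zero_le _)
    (Finset.mem_univ i)
  let f' : Fin r → J := fun i => ⟨g ^ (E - e i) * a i, J.mul_mem_left _ (a i).2⟩
  set u : Localization.Away g := algebraMap R (Localization.Away g) (g ^ E) with hu
  have hunit : IsUnit u := isUnit_alg_pow g (Localization.Away g) E
  have hf' : ∀ i, algebraMap R (Localization.Away g) (f' i) = u * f i := by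
    intro i
    change algebraMap R (Localization.Away g) (g ^ (E - e i) * a i) = u * f i
    rw [map_mul, ← ha i, hu, ← Nat.sub_add_cancel (hle i), pow_add, map_mul,
      Nat.sub_add_cancel (hle i)]
    ring
  have hspan' : Ideal.span (Set.range fun i => algebraMap R (Localization.Away g) (f' i)) =
      J.map (algebraMap R (Localization.Away g)) := by
    rw [← hspan]
    apply le_antisymm
    · rw [Ideal.span_le]
      rintro _ ⟨i, rfl⟩
      change algebraMap R (Localization.Away g) (f' i) ∈ _
      rw [hf' i]
      exact Ideal.mul_mem_left _ _ (Ideal.subset_span ⟨i, rfl⟩)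
    · rw [Ideal.span_le]
      rintro _ ⟨i, rfl⟩
      have : u * f i ∈ Ideal.span (Set.range fun i => algebraMap R (Localization.Away g) (f' i)) := by
        rw [← hf' i]
        exact Ideal.subset_span ⟨i, rfl⟩
      exact (Ideal.unit_mul_mem_iff_mem _ hunit).mp this
  refine ⟨f', ?_, ?_⟩
  · intro x hx
    have h2 : algebraMap R (Localization.Away g) x ∈
        ((Ideal.span (Set.range fun i => (f' i : R))) ^ 1).map (algebraMap R (Localization.Away g)) := by
      rw [pow_one, Ideal.map_span, ← Set.range_comp]
      have := Ideal.mem_map_of_mem (algebraMap R (Localization.Away g)) hx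
      rw [← hspan'] at this
      exact this
    obtain ⟨K, hK⟩ := exists_pow_mul_mem_of_map_mem _ g (Localization.Away g) 1 x h2
    exact ⟨K, by rwa [pow_one] at hK⟩
  · intro n F hF hev d
    have h3 : algebraMap R (Localization.Away g) (MvPolynomial.eval (fun i => (f' i : R)) F) =
        u ^ n * MvPolynomial.eval f (MvPolynomial.map (algebraMap R (Localization.Away g)) F) := by
      rw [← eval_smul_of_isHomogeneous u f _ (hF.map _), MvPolynomial.eval_map]
      have : (fun i => u * f i) = fun i => algebraMap R (Localization.Away g) (f' i) := by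
        funext i; rw [hf' i]
      rw [this]
      exact MvPolynomial.eval₂_comp (algebraMap R (Localization.Away g)) (fun i => (f' i : R)) F
    have h4 : MvPolynomial.eval f (MvPolynomial.map (algebraMap R (Localization.Away g)) F) ∈
        Ideal.span (Set.range f) ^ (n + 1) := by
      have := Ideal.mem_map_of_mem (algebraMap R (Localization.Away g)) hev
      rw [h3, Ideal.map_pow, ← hspan] at this
      exact (Ideal.unit_mul_mem_iff_mem _ (hunit.pow n)).mp this
    have h5 := hqr n _ (hF.map _) h4 d
    rw [MvPolynomial.coeff_map, hspan] at h5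
    have h6 : algebraMap R (Localization.Away g) (F.coeff d) ∈ (J ^ 1).map (algebraMap R (Localization.Away g)) := by
      rwa [pow_one]
    obtain ⟨K, hK⟩ := exists_pow_mul_mem_of_map_mem J g (Localization.Away g) 1 _ h6
    exact ⟨K, by rwa [pow_one] at hK⟩

end K

end Groth.Agent.H5.QR
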