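import Mathlib
import Groth.Prelude.Def_PP16
import Groth.Agent.Lib.Helper5.QR.F

set_option autoImplicit false

namespace Groth.Agent.H5.QR

open MvPolynomial

universe u

section G

variable {R : Type u} [CommRing R] (J : Ideal R)

theorem fg_of_isLocallyQuasiRegular (h : PP16.IsLocallyQuasiRegular R J) : J.FG := by
  apply Ideal.fg_of_localizationSpan {g | (J.map (algebraMap R (Localization.Away g))).FG}
  · apply span_eq_top_of_forall_prime
    intro P _
    by_cases hJP : J ≤ P
    · obtain ⟨g, hg, r, f, -, hspan⟩ := h P hJP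
      refine ⟨g, ?_, hg⟩
      change (J.map _).FG
      rw [← hspan]
      exact Submodule.fg_span (Set.finite_range f)
    · obtain ⟨g, hgJ, hgP⟩ := Set.not_subset.mp hJP
      refine ⟨g, ?_, hgP⟩
      change (J.map _).FG
      have : J.map (algebraMap R (Localization.Away g)) = ⊤ :=
        Ideal.eq_top_of_isUnit_mem _ (Ideal.mem_map_of_mem _ hgJ)
          (IsLocalization.Away.algebraMap_isUnit g)
      rw [this]
      exact ⟨{1}, by simp⟩
  · intro g
    exact g.2

/-- Local data for a locally quasi-regular ideal at a prime containing it. -/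
theorem exists_QRg_of_isLocallyQuasiRegular (h : PP16.IsLocallyQuasiRegular R J)
    (P : Ideal R) [P.IsPrime] (hJP : J ≤ P) :
    ∃ g ∉ P, ∃ (r : ℕ) (f' : Fin r → J), QRg J g f' := by
  obtain ⟨g, hg, r, f, hqr, hspan⟩ := h P hJP
  obtain ⟨f', hf'⟩ := exists_QRg J g f hqr hspan
  exact ⟨g, hg, r, f', hf'⟩

end G

end Groth.Agent.H5.QR
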