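import Mathlib
import Groth.Prelude.Def_PP16
import Groth.Agent.Lib.Helper5.SymPow.E
import Groth.Agent.Lib.Helper5.GrSym.A3
import Groth.Agent.Lib.Helper5.GrSym.C
import Groth.Agent.Lib.Helper5.QR.G

set_option autoImplicit false

namespace Groth.Agent.H5.QR

open MvPolynomial TensorProduct

universe u

section H

variable {R : Type u} [CommRing R] (J : Ideal R) (g : R) {r : ℕ} (f' : Fin r → J)

/-- The linear-combination map `R^r → J` of a family in `J`. -/
noncomputable def lc : (Fin r →₀ R) →ₗ[R] J := Finsupp.linearCombination R f'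

/-- The induced map `R^r → J/J²`. -/
noncomputable def piMap : (Fin r →₀ R) →ₗ[R] J.Cotangent := J.toCotangent ∘ₗ lc J f'

lemma lc_coe (c : Fin r →₀ R) :
    ((lc J f' c : J) : R) = MvPolynomial.eval (fun i => (f' i : R)) (GrSym.ell c) := by
  induction c using Finsupp.induction_linear with
  | zero => simp
  | add x y hx hy => rw [map_add, map_add, map_add, Submodule.coe_add, hx, hy]
  | single i a =>
    have h1 : (Finsupp.single i a : Fin r →₀ R) = a • Finsupp.basisSingleOne (R := R) i := by
      simp
    rw [h1, map_smul, map_smul, SymPow.linForm_basis]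
    simp [lc]

variable {ι : Type u} [Fintype ι]

lemma theta_isHomogeneous (w : Sym[R] ι (Fin r →₀ R)) :
    (SymPow.theta (B₀ := R) (ι := ι) (Finsupp.basisSingleOne (R := R) (ι := Fin r)) w).IsHomogeneous
      (Fintype.card ι) := by
  have hw : w ∈ Submodule.span R (Set.range (SymmetricPower.tprod R (ι := ι)
      (M := Fin r →₀ R))) := by
    rw [SymmetricPower.span_tprod_eq_top]; trivial
  refine Submodule.span_induction ?_ ?_ ?_ ?_ hw
  · rintro _ ⟨v, rfl⟩
    rw [SymPow.theta_tprod]
    have := IsHomogeneous.prod Finset.univ (fun i => SymPow.linForm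
      (Finsupp.basisSingleOne (R := R) (ι := Fin r)) (v i)) (fun _ => 1)
      (fun i _ => GrSym.ell_isHomogeneous (v i))
    simpa using this
  · rw [map_zero]; exact isHomogeneous_zero _ _ _
  · intro x y _ _ hx hy
    rw [map_add]; exact hx.add hy
  · intro a x _ hx
    rw [map_smul]
    exact (homogeneousSubmodule (Fin r) R (Fintype.card ι)).smul_mem a hx

end H

end Groth.Agent.H5.QR
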