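import Mathlib
import Groth.Prelude.Def_PP16
import Groth.Agent.Lib.Helper5.QR.H

set_option autoImplicit false

namespace Groth.Agent.H5.QR

open MvPolynomial TensorProduct

universe u

section H2

variable {R : Type u} [CommRing R] (J : Ideal R) (g : R) {r : ℕ} (f' : Fin r → J)

/-- Claim A: up to a power of `g`, every element of `J/J²` comes from `R^r`. -/
lemma exists_pow_smul_eq_piMap
    (h1 : ∀ x ∈ J, ∃ N : ℕ, g ^ N * x ∈ Ideal.span (Set.range fun i => (f' i : R)))
    (m : J.Cotangent) : ∃ (N : ℕ) (c : Fin r →₀ R), g ^ N • m = piMap J f' c := by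
  obtain ⟨x, rfl⟩ := J.toCotangent_surjective m
  obtain ⟨N, hN⟩ := h1 x x.2
  obtain ⟨c, hc⟩ := (Ideal.mem_span_range_iff_exists_fun).mp hN
  refine ⟨N, Finsupp.equivFunOnFinite.symm c, ?_⟩
  rw [piMap, LinearMap.comp_apply, ← map_smul]
  congr 1
  apply Subtype.ext
  rw [lc, Finsupp.linearCombination_apply, Finsupp.sum_fintype _ _ (fun i => zero_smul R (f' i))]
  simp only [Finsupp.equivFunOnFinite_symm_apply_apply, Submodule.coe_sum, Submodule.coe_smul,
    smul_eq_mul]
  exact hc.symm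

variable {ι : Type u} [Fintype ι]

/-- Claim B: up to a power of `g`, every element of `Sym(J/J²)` comes from `Sym(R^r)`. -/
lemma exists_pow_smul_eq_map
    (h1 : ∀ x ∈ J, ∃ N : ℕ, g ^ N * x ∈ Ideal.span (Set.range fun i => (f' i : R)))
    (z : Sym[R] ι J.Cotangent) :
    ∃ (N : ℕ) (w : Sym[R] ι (Fin r →₀ R)), g ^ N • z = SymPow.map (piMap J f') w := by
  have hz : z ∈ Submodule.span R (Set.range (SymmetricPower.tprod R (ι := ι)
      (M := J.Cotangent))) := by
    rw [SymmetricPower.span_tprod_eq_top]; trivial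
  refine Submodule.span_induction ?_ ?_ ?_ ?_ hz
  · rintro _ ⟨v, rfl⟩
    choose N c hc using fun l => exists_pow_smul_eq_piMap J g f' h1 (v l)
    refine ⟨∑ l, N l, SymmetricPower.tprod R c, ?_⟩
    rw [SymPow.map_tprod, ← Finset.prod_pow_eq_pow_sum, ← MultilinearMap.map_smul_univ]
    congr 1
    funext l
    exact hc l
  · exact ⟨0, 0, by simp⟩
  · rintro x y _ _ ⟨N₁, w₁, h₁⟩ ⟨N₂, w₂, h₂⟩
    refine ⟨N₁ + N₂, g ^ N₂ • w₁ + g ^ N₁ • w₂, ?_⟩
    rw [smul_add, map_add, map_smul, map_smul, ← h₁, ← h₂, smul_smul, smul_smul, ← pow_add,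
      ← pow_add, add_comm N₂ N₁]
  · rintro a x _ ⟨N, w, h⟩
    refine ⟨N, a • w, ?_⟩
    rw [map_smul, ← h, smul_comm]

lemma cls_congr {n : ℕ} {x y : R} (hxy : x = y) (hx : x ∈ J ^ n) (hy : y ∈ J ^ n) :
    GrSym.cls J (J ^ n) (J ^ (n + 1)) (fun _ => Iff.rfl) x hx =
      GrSym.cls J (J ^ n) (J ^ (n + 1)) (fun _ => Iff.rfl) y hy := by
  subst hxy; rfl

/-- Claim C: compatibility of `φ ∘ Sym(π)` with evaluation of the attached form. -/
lemma exists_mem_and_eq
    (φ : Sym[R] ι J.Cotangent →ₗ[R] PP16.grJ R J (Fintype.card ι))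
    (hφ : ∀ x : ι → J, φ (SymmetricPower.tprod R (fun i => J.toCotangent (x i))) =
      PP16.zetaJ R J x)
    (w : Sym[R] ι (Fin r →₀ R)) :
    ∃ h : MvPolynomial.eval (fun i => (f' i : R))
        (SymPow.theta (B₀ := R) (ι := ι) (Finsupp.basisSingleOne (R := R) (ι := Fin r)) w) ∈
          J ^ Fintype.card ι,
      φ (SymPow.map (piMap J f') w) =
        GrSym.cls J (J ^ Fintype.card ι) (J ^ (Fintype.card ι + 1)) (fun _ => Iff.rfl) _ h := by
  have hw : w ∈ Submodule.span R (Set.range (SymmetricPower.tprod R (ι := ι)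
      (M := Fin r →₀ R))) := by
    rw [SymmetricPower.span_tprod_eq_top]; trivial
  refine Submodule.span_induction ?_ ?_ ?_ ?_ hw
  · rintro _ ⟨c, rfl⟩
    have e1 : MvPolynomial.eval (fun i => (f' i : R))
        (SymPow.theta (B₀ := R) (ι := ι) (Finsupp.basisSingleOne (R := R) (ι := Fin r))
          (SymmetricPower.tprod R c)) = ∏ l, ((lc J f' (c l) : J) : R) := by
      rw [SymPow.theta_tprod, map_prod]
      refine Finset.prod_congr rfl fun l _ => ?_
      rw [lc_coe]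
    have hmem : ∏ l, ((lc J f' (c l) : J) : R) ∈ J ^ Fintype.card ι :=
      GrSym.prod_mem J (fun l => lc J f' (c l))
    refine ⟨e1 ▸ hmem, ?_⟩
    rw [SymPow.map_tprod]
    have : (fun i => piMap J f' (c i)) = fun i => J.toCotangent (lc J f' (c i)) := rfl
    rw [this, hφ]
    exact cls_congr J e1.symm hmem _
  · refine ⟨by rw [map_zero, map_zero]; exact Ideal.zero_mem _, ?_⟩
    rw [map_zero, map_zero]
    exact cls_congr J (by rw [map_zero, map_zero]) (Ideal.zero_mem _) _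
  · rintro x y _ _ ⟨hx, hx'⟩ ⟨hy, hy'⟩
    refine ⟨by rw [map_add, map_add]; exact Ideal.add_mem _ hx hy, ?_⟩
    rw [map_add, map_add, hx', hy', ← GrSym.cls_add]
    exact cls_congr J (by rw [map_add, map_add]) _ _
  · rintro a x _ ⟨hx, hx'⟩
    refine ⟨by rw [map_smul, smul_eval]; exact Ideal.mul_mem_left _ _ hx, ?_⟩
    rw [map_smul, map_smul, hx', ← GrSym.cls_smul]
    exact cls_congr J (by rw [map_smul, smul_eval, smul_eq_mul]) _ _

end H2

end Groth.Agent.H5.QR
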