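import Mathlib
import Groth.Prelude.Def_PP16
import Groth.Agent.Lib.Helper5.QR.H2

set_option autoImplicit false

namespace Groth.Agent.H5.QR

open MvPolynomial TensorProduct

universe u

section H3

variable {R : Type u} [CommRing R] (J : Ideal R) (g : R) {r : ℕ} (f' : Fin r → J)
  {ι : Type u} [Fintype ι]

theorem exists_pow_smul_eq_zero [Nonempty ι] (hq : QRg J g f')
    (φ : Sym[R] ι J.Cotangent →ₗ[R] PP16.grJ R J (Fintype.card ι))
    (hφ : ∀ x : ι → J, φ (SymmetricPower.tprod R (fun i => J.toCotangent (x i))) =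
      PP16.zetaJ R J x)
    (z : Sym[R] ι J.Cotangent) (hz : φ z = 0) : ∃ N : ℕ, g ^ N • z = 0 := by
  classical
  obtain ⟨N₁, w, hw⟩ := exists_pow_smul_eq_map J g f' hq.1 z
  have h0 : φ (SymPow.map (piMap J f') w) = 0 := by
    rw [← hw, map_smul, hz, smul_zero]
  obtain ⟨hmem, heq⟩ := exists_mem_and_eq J f' φ hφ w
  rw [h0] at heq
  have hev := (GrSym.cls_eq_zero_iff J _ _ (fun _ => Iff.rfl) (fun _ => Iff.rfl) _ hmem).mp heq.symm
  set b := Finsupp.basisSingleOne (R := R) (ι := Fin r) with hb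
  set p := SymPow.theta (B₀ := R) (ι := ι) b w with hp
  have hcoef := hq.2 (Fintype.card ι) p (theta_isHomogeneous w) hev
  choose k hk using hcoef
  set K := ∑ d ∈ p.support, k d with hK
  have hKmem : ∀ d ∈ p.support, g ^ K * p.coeff d ∈ J := by
    intro d hd
    have hle : k d ≤ K := Finset.single_le_sum (fun _ _ => Nat.zero_le _) hd
    rw [← Nat.sub_add_cancel hle, pow_add, mul_assoc]
    exact Ideal.mul_mem_left _ _ (hk d)
  have hsurj : Function.Surjective (algebraMap R R) := fun x => ⟨x, rfl⟩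
  have hrt := LinearMap.congr_fun (SymPow.rho_comp_theta (B₀ := R) (ι := ι) b hsurj) (g ^ K • w)
  rw [LinearMap.comp_apply, LinearMap.id_apply, map_smul, ← hp] at hrt
  have hsum : g ^ K • p = ∑ d ∈ p.support, monomial d (algebraMap R R (g ^ K * p.coeff d)) := by
    conv_lhs => rw [p.as_sum, Finset.smul_sum]
    refine Finset.sum_congr rfl fun d _ => ?_
    rw [smul_monomial]
    rfl
  rw [hsum, map_sum] at hrt
  refine ⟨K + N₁, ?_⟩
  rw [pow_add, mul_smul, hw, ← map_smul, ← hrt, map_sum]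
  refine Finset.sum_eq_zero fun d hd => ?_
  rw [SymPow.rho_monomial, map_smul]
  apply SymPow.smul_eq_zero_of_forall
  intro m
  exact Ideal.Cotangent.smul_eq_zero_of_mem (hKmem d hd) m

end H3

end Groth.Agent.H5.QR
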