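import Mathlib
import Groth.Prelude.Def_PP16
import Groth.Agent.Lib.Helper5.QR.H3

set_option autoImplicit false

namespace Groth.Agent.H5.QR

open MvPolynomial TensorProduct

universe u

section H4

variable {R : Type u} [CommRing R] (J : Ideal R)

theorem symGrBijective_of_isLocallyQuasiRegular (h : PP16.IsLocallyQuasiRegular R J) :
    PP16.SymGrBijective R J := by
  intro ι _ _
  obtain ⟨φ, hφ⟩ := GrSym.exists_canonical (B₀ := R) (ι := ι) J (J ^ Fintype.card ι)
    (J ^ (Fintype.card ι + 1)) (fun _ => Iff.rfl) (fun _ => Iff.rfl)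
  have hφ' : ∀ x : ι → J, φ (SymmetricPower.tprod R (fun i => J.toCotangent (x i))) =
      PP16.zetaJ R J x := hφ
  refine ⟨φ, hφ', ?_, ?_⟩
  · rw [injective_iff_map_eq_zero]
    intro z hz
    have htop : Ideal.torsionOf R _ z = ⊤ := by
      by_contra hne
      obtain ⟨P, hP, hle⟩ := Ideal.exists_le_maximal _ hne
      haveI := hP.isPrime
      by_cases hJP : J ≤ P
      · obtain ⟨g, hg, r, f', hq⟩ := exists_QRg_of_isLocallyQuasiRegular J h P hJP
        obtain ⟨N, hN⟩ := exists_pow_smul_eq_zero J g f' hq φ hφ' z hz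
        exact hg (hP.isPrime.mem_of_pow_mem N (hle ((Ideal.mem_torsionOf_iff _ _).mpr hN)))
      · obtain ⟨g, hgJ, hgP⟩ := Set.not_subset.mp hJP
        exact hgP (hle ((Ideal.mem_torsionOf_iff _ _).mpr (SymPow.smul_eq_zero_of_forall g
          (fun m => Ideal.Cotangent.smul_eq_zero_of_mem hgJ m) z)))
    have h1 := (Ideal.eq_top_iff_one _).mp htop
    rwa [Ideal.mem_torsionOf_iff, one_smul] at h1
  · exact GrSym.surjective_of_pinned J _ _ (fun _ => Iff.rfl) (fun _ => Iff.rfl)
      (fun s => ⟨s, by simp⟩) φ hφ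

end H4

end Groth.Agent.H5.QR
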