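import Mathlib
import Groth.Prelude.Def_PP16
import Groth.Agent.Lib.Helper5.QR.H2

set_option autoImplicit false

namespace Groth.Agent.H5.QR

open MvPolynomial TensorProduct

universe u

section I

variable {R : Type u} [CommRing R] (J : Ideal R) (g : R) {r : ℕ} (f' : Fin r → J)

/-- Degree-one consequence of `QRg`: relations among the classes of the `f' i` modulo `J²`
have coefficients in `J` up to a power of `g`. -/
lemma exists_pow_mul_mem_of_sum_mem (hq : QRg J g f') (c : Fin r → R)
    (hc : ∑ i, c i * (f' i : R) ∈ J ^ 2) (i : Fin r) : ∃ k : ℕ, g ^ k * c i ∈ J := by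
  classical
  let F : MvPolynomial (Fin r) R := ∑ j, C (c j) * X j
  have hF : F.IsHomogeneous 1 :=
    IsHomogeneous.sum _ _ _ fun j _ => isHomogeneous_C_mul_X (c j) j
  have hev : MvPolynomial.eval (fun i => (f' i : R)) F ∈ J ^ (1 + 1) := by
    simp only [F, map_sum, map_mul, eval_C, eval_X]
    exact hc
  obtain ⟨k, hk⟩ := hq.2 1 F hF hev (Finsupp.single i 1)
  refine ⟨k, ?_⟩
  have hco : F.coeff (Finsupp.single i 1) = c i := by
    simp only [F, coeff_sum, coeff_C_mul, coeff_X]
    rw [Finset.sum_eq_single i]
    · rw [if_pos rfl, mul_one]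
    · intro j _ hne
      rw [if_neg, mul_zero]
      intro h
      exact hne ((Finsupp.single_left_inj one_ne_zero).mp h)
    · intro h; exact absurd (Finset.mem_univ i) h
  rwa [hco] at hk

end I

end Groth.Agent.H5.QR
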