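import Mathlib
import Groth.Prelude.Def_PP16
import Groth.Agent.Lib.Helper5.QR.I

set_option autoImplicit false

namespace Groth.Agent.H5.QR

open MvPolynomial TensorProduct

universe u

section I2

variable {R : Type u} [CommRing R] (J : Ideal R) (g : R) {r : ℕ} (f' : Fin r → J)

local notation "gb" => Ideal.Quotient.mk J g
local notation "Cg" => Localization.Away (Ideal.Quotient.mk J g)
local notation "Mg" => LocalizedModule (Submonoid.powers (Ideal.Quotient.mk J g)) J.Cotangent
local notation "ℓ" => LocalizedModule.mkLinearMap (Submonoid.powers (Ideal.Quotient.mk J g))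
  J.Cotangent

lemma mk_smul_cot (a : R) (m : J.Cotangent) : (Ideal.Quotient.mk J a) • m = a • m := rfl

theorem linearIndependent_away (hq : QRg J g f') :
    LinearIndependent Cg (fun i => ℓ (J.toCotangent (f' i))) := by
  classical
  rw [Fintype.linearIndependent_iff]
  intro ct hct i
  obtain ⟨b, hb⟩ := IsLocalization.exist_integer_multiples_of_finite
    (Submonoid.powers gb) ct
  choose c hc using hb
  choose c' hc' using fun j => Ideal.Quotient.mk_surjective (c j)
  have h1 : ℓ (∑ j, c j • J.toCotangent (f' j)) = 0 := by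
    rw [map_sum]
    have : ∀ j, ℓ (c j • J.toCotangent (f' j)) =
        (b : R ⧸ J) • (ct j • ℓ (J.toCotangent (f' j))) := by
      intro j
      rw [map_smul, ← algebraMap_smul Cg (c j), hc j, smul_assoc]
    rw [Finset.sum_congr rfl fun j _ => this j, ← Finset.smul_sum, hct, smul_zero]
  obtain ⟨s', hs'⟩ := (IsLocalizedModule.eq_zero_iff (Submonoid.powers gb) ℓ).mp h1
  obtain ⟨K, hK'⟩ := s'.2
  have hK : gb ^ K • ∑ j, c j • J.toCotangent (f' j) = 0 := by
    rw [Submonoid.smul_def] at hs'
    rw [← hs']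
    congr 1
  have h2 : J.toCotangent (∑ j, (g ^ K * c' j) • f' j) = 0 := by
    rw [← hK, map_sum, Finset.smul_sum]
    refine Finset.sum_congr rfl fun j _ => ?_
    rw [map_smul, mul_smul, ← hc' j, mk_smul_cot, ← map_pow, mk_smul_cot]
  rw [Ideal.toCotangent_eq_zero] at h2
  have h3 : ∑ j, (g ^ K * c' j) * (f' j : R) ∈ J ^ 2 := by
    simpa using h2
  obtain ⟨k, hk⟩ := exists_pow_mul_mem_of_sum_mem J g f' hq _ h3 i
  have h4 : algebraMap (R ⧸ J) Cg (c i) = 0 := by
    rw [IsLocalization.map_eq_zero_iff (Submonoid.powers gb)]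
    refine ⟨⟨gb ^ (k + K), k + K, rfl⟩, ?_⟩
    change gb ^ (k + K) * c i = 0
    rw [← hc' i, ← map_pow, ← map_mul, Ideal.Quotient.eq_zero_iff_mem, pow_add, mul_assoc]
    exact hk
  rw [hc i, Algebra.smul_def] at h4
  exact (IsUnit.mul_right_eq_zero (IsLocalization.map_units Cg b)).mp h4

theorem span_away_eq_top (hq : QRg J g f') :
    Submodule.span Cg (Set.range fun i => ℓ (J.toCotangent (f' i))) = ⊤ := by
  rw [eq_top_iff]
  rintro y -
  obtain ⟨⟨m, s⟩, hs⟩ := IsLocalizedModule.surj (Submonoid.powers gb) ℓ y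
  obtain ⟨N, c, hN⟩ := exists_pow_smul_eq_piMap J g f' hq.1 m
  have h1 : ℓ (g ^ N • m) ∈ Submodule.span Cg (Set.range fun i => ℓ (J.toCotangent (f' i))) := by
    rw [hN, piMap, LinearMap.comp_apply, lc, Finsupp.linearCombination_apply,
      Finsupp.sum_fintype _ _ (fun i => zero_smul R (f' i)), map_sum, map_sum]
    refine Submodule.sum_mem _ fun i _ => ?_
    rw [map_smul, ← mk_smul_cot, map_smul, ← algebraMap_smul Cg]
    exact Submodule.smul_mem _ _ (Submodule.subset_span ⟨i, rfl⟩)
  have h2 : ℓ (g ^ N • m) = algebraMap (R ⧸ J) Cg (gb ^ N * s) • y := by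
    rw [← mk_smul_cot, map_pow, map_smul, ← hs, Submonoid.smul_def, smul_smul, algebraMap_smul]
  rw [h2] at h1
  have hu : IsUnit (algebraMap (R ⧸ J) Cg (gb ^ N * s)) :=
    IsLocalization.map_units Cg (⟨gb ^ N, N, rfl⟩ * s : Submonoid.powers gb)
  exact (Submodule.smul_mem_iff_of_isUnit _ hu).mp h1

/-- The classes of the `f' i` form a basis of `J/J²` after inverting `g`. -/
theorem exists_basis_away (hq : QRg J g f') : Nonempty (Module.Basis (Fin r) Cg Mg) :=
  ⟨Module.Basis.mk (linearIndependent_away J g f' hq) (span_away_eq_top J g f' hq).ge⟩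

end I2

end Groth.Agent.H5.QR
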