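import Mathlib
import Groth.Prelude.Def_PP16
import Groth.Agent.Lib.Helper5.QR.I2

set_option autoImplicit false

namespace Groth.Agent.H5.QR

open MvPolynomial TensorProduct

universe u

section I3

variable {R : Type u} [CommRing R] (J : Ideal R)

theorem projective_of_isLocallyQuasiRegular (h : PP16.IsLocallyQuasiRegular R J) :
    Module.Projective (R ⧸ J) J.Cotangent := by
  let s : Set (R ⧸ J) := {gb | Module.Free (Localization.Away gb)
      (LocalizedModule.Away gb J.Cotangent) ∧
    Module.Finite (Localization.Away gb) (LocalizedModule.Away gb J.Cotangent)}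
  have hcover : ∀ (Q : Ideal (R ⧸ J)) [Q.IsPrime], ∃ gb ∈ s, gb ∉ Q := by
    intro Q _
    have hJP : J ≤ Q.comap (Ideal.Quotient.mk J) := by
      intro x hx
      rw [Ideal.mem_comap, Ideal.Quotient.eq_zero_iff_mem.mpr hx]
      exact Q.zero_mem
    obtain ⟨g, hg, r, f', hq⟩ := exists_QRg_of_isLocallyQuasiRegular J h
      (Q.comap (Ideal.Quotient.mk J)) hJP
    obtain ⟨b⟩ := exists_basis_away J g f' hq
    exact ⟨Ideal.Quotient.mk J g, ⟨Module.Free.of_basis b, Module.Finite.of_basis b⟩, hg⟩
  have hspan := span_eq_top_of_forall_prime s hcover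
  haveI : Module.FinitePresentation (R ⧸ J) J.Cotangent := by
    refine Module.FinitePresentation.of_localizationSpan s hspan (fun gb => ?_)
    obtain ⟨h1, h2⟩ := gb.2
    exact Module.finitePresentation_of_projective _ _
  rw [← Module.freeLocus_eq_univ_iff, Set.eq_univ_iff_forall]
  intro p
  obtain ⟨gb, hgbs, hgbp⟩ := hcover p.asIdeal
  have hsub := (Module.basicOpen_subset_freeLocus_iff (M := J.Cotangent) (f := gb)).mpr (by
    obtain ⟨h1, h2⟩ := hgbs
    exact Module.Projective.of_free)
  exact hsub hgbp

end I3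

end Groth.Agent.H5.QR
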